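import Cfsg.Agent.Mrg.Omega.NO3S.EMany.LowExt
import Cfsg.Agent.Mrg.Omega.ML.Ex.TwoOdd

section


/-!
# THEOREM KL* for a family of `T`-invariant objects (bb #22505 (I), #23231 (4), #23252 (1), KL*(q))

`H` acts on the elementary abelian 2-group `M` (not necessarily faithfully), `T` is a Sylow 2-subgroup, `A` an exact atom
on `M`, `A ≰ O₂(H)`;  `YY` is a set of `T`-invariant subgroups of `M`, `A ≤ O₂(C_H(Y) T)` for all `Y ∈ YY`, some member
is centralised by `T`, and for every `T`-minimal `P` some member is centralised by the elements of odd order of `P`.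

* `InpF T A YY` : this situation;
* `cores` : the core for all `T`-invariant `Y` at once;
* `exists_mover` : some `T`-minimal `P` moves a given `T`-fixed vector of an irreducible `N`;
* **`InpF.exists_sysW`**, **`InpF.exists_sysT`**, `InpF.false_of`.

No `T`-fixed vector is given, `N_H(T)` may move every vector (`Y` = a subgroup `Z_j` of order `q`, torus, field
automorphisms).
-/

set_option autoImplicit false

namespace Cfsg.Agent.Omega.KL.Star.Fam

open Subgroup Cfsg Cfsg.Agent.ZN Cfsg.Agent.ClassTwoFusion.Quad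
open Cfsg.Agent.Omega.ML.MinFrame hiding comm_of_sq
open Cfsg.Agent.Omega.ML.Final Cfsg.Agent.Omega.NO3S.EMany.Low
open Cfsg.Agent.Omega.KL.Star.Core
open Cfsg.Agent.Omega.ML.Ex.TwoOdd (SysW.odd_of SysW.ne_of_center)
open Cfsg.Agent.MinSimple.VModule (o2_isPGroup o2_le le_o2 le_normalizer_o2 o2_le_of_sylow oddGen oddGen_le oddGen_def)
open Cfsg.Agent.MinSimple.MinParabolic (IsMinPar le_of_forall)

universe u v

section core

variable {H : Type u} [Group H] [Finite H] {M : Type v} [Group M] [Finite M] [MulDistribMulAction H M]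
  {T A : Subgroup H}

/-- **The core of KL***, for all `T`-invariant `Y` at once -/
theorem cores (h : LB H M T A) (hM : MLK.{u, v}) {x : M} (tx : ∀ t ∈ T, t • x = x) (hx : ¬ ∀ g : H, g • x = x) :
    ∃ (N : Type v) (_ : Group N) (_ : Finite N) (_ : MulDistribMulAction H N) (A' : Subgroup H),
      LB H N T A' ∧ A' ≤ A ∧ (∀ W : Subgroup N, (∀ g : H, ∀ w ∈ W, g • w ∈ W) → W = ⊥ ∨ W = ⊤) ∧
      ∀ Y : Subgroup M, (∀ t ∈ T, ∀ w ∈ Y, t • w ∈ Y) → (¬ ∀ g : H, Odd (orderOf g) → ∀ w ∈ Y, g • w = w) →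
        ∃ u' : N, (∀ t ∈ T, t • u' = u') ∧ (¬ ∀ g : H, g • u' = u') ∧
          ∀ g : H, Odd (orderOf g) → (∀ w ∈ Y, g • w = w) → g • u' = u' := by
  obtain ⟨x1, hx1, hs⟩ := exists_shift h tx
  have tx1 : ∀ t ∈ T, t • x1 = x1 := fun t ht => (hs t).2 (tx t ht)
  have hx1' : ¬ ∀ g : H, g • x1 = x1 := fun hc => hx fun g => (hs g).1 (hc g)
  obtain ⟨N, _, _, _, f, s⟩ := h.exists_sec
  obtain ⟨A', hAA, hA'⟩ := s.exists_atom h hM tx1 hx1' hx1
  have sqN := s.sqN h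
  have hirr := s.irr h hM tx1 hx1' hx1
  refine ⟨N, inferInstance, inferInstance, inferInstance, A', hA', hAA, hirr, fun Y TY hY => ?_⟩
  obtain ⟨u, ⟨hu1, hu2⟩, hu3⟩ := exists_vec h TY hY
  let E : Subgroup N := ((Y ⊔ wz M A h.sq).subgroupOf (cmm M A)).map f
  have hYW : ∀ t ∈ T, ∀ w ∈ Y ⊔ wz M A h.sq, t • w ∈ Y ⊔ wz M A h.sq := by
    intro t ht w hw
    have hn : (wz M A h.sq).Normal := normal_of_sq h.sq _
    obtain ⟨y, hy, w0, hw0, rfl⟩ := mem_sup_of_normal_right.1 hw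
    rw [smul_mul']
    exact mul_mem (le_sup_left (a := Y) (TY t ht y hy)) (le_sup_right (a := Y) (smul_mem_wz t hw0))
  have hE : ∀ t ∈ T, ∀ w ∈ E, t • w ∈ E := by
    rintro t ht _ ⟨w, hw, rfl⟩
    refine ⟨⟨t • (w : M), smul_mem_cmm t w.2⟩, hYW t ht _ hw, ?_⟩
    exact s.eqv t w
  have hE1 : E ≠ ⊥ := by
    intro h1
    have h2 : f ⟨u, hu2⟩ ∈ E := ⟨⟨u, hu2⟩, hu1, rfl⟩
    rw [h1, mem_bot, s.ker] at h2
    exact hu3 h2
  obtain ⟨u', hu', hu'1, tu'⟩ := exists_fix sqN h.two hE hE1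
  refine ⟨u', tu', ?_, ?_⟩
  · intro hc
    have h1 : ∀ g : H, ∀ w ∈ cv N ((⊤ : Subgroup H) : Set H), g • w ∈ cv N ((⊤ : Subgroup H) : Set H) := by
      intro g w hw
      rw [hw g (mem_top g)]
      exact hw
    rcases hirr _ h1 with h2 | h2
    · have h3 : u' ∈ cv N ((⊤ : Subgroup H) : Set H) := fun g _ => hc g
      rw [h2] at h3
      exact hu'1 (mem_bot.1 h3)
    · refine hx1' fun g => (s.fix_iff h (u := ⟨x1, hx1⟩) tx1 (R := ⊤) le_top).1 (fun g _ => ?_) g (mem_top g)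
      have h3 : f ⟨x1, hx1⟩ ∈ cv N ((⊤ : Subgroup H) : Set H) := h2 ▸ mem_top _
      exact h3 g (mem_top g)
  · intro g hg hgY
    obtain ⟨w, hw, rfl⟩ := hu'
    rw [s.smul_eq_iff]
    have hgK : g ∈ Km A := mem_of_odd h.two h.gen hg
    have hn : (wz M A h.sq).Normal := normal_of_sq h.sq _
    have hw' : (w : M) ∈ Y ⊔ wz M A h.sq := hw
    obtain ⟨y, hy, w0, hw0, hyw⟩ := mem_sup_of_normal_right.1 hw'
    rw [← hyw]
    have hcomm := comm_of_sq h.sq
    have e : g • (y * w0) * (y * w0)⁻¹ = (g • w0) * w0⁻¹ := by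
      rw [smul_mul', hgY y hy, mul_inv_rev, hcomm y]
      calc g • w0 * y * (w0⁻¹ * y⁻¹) = g • w0 * (y * w0⁻¹) * y⁻¹ := by group
        _ = g • w0 * (w0⁻¹ * y) * y⁻¹ := by rw [hcomm y w0⁻¹]
        _ = _ := by group
    rw [e]
    exact hw0 g hgK

omit [Finite M] in
/-- some `T`-minimal `P` moves the `T`-fixed vector `x` -/
theorem exists_mover (h : LB H M T A) (irr : ∀ W : Subgroup M, (∀ g : H, ∀ w ∈ W, g • w ∈ W) → W = ⊥ ∨ W = ⊤)
    {x : M} (tx : ∀ t ∈ T, t • x = x) (hx : ¬ ∀ g : H, g • x = x) :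
    ∃ P : Subgroup H, IsMinPar T P ∧ ∃ p ∈ P, p • x ≠ x := by
  by_contra hc
  push Not at hc
  -- the vectors fixed by all `T`-minimal subgroups
  let W : Subgroup M :=
    { carrier := {w | ∀ P : Subgroup H, IsMinPar T P → ∀ p ∈ P, p • w = w}
      one_mem' := fun P _ p _ => smul_one p
      mul_mem' := fun {a b} ha hb P hP p hp => by rw [smul_mul', ha P hP p hp, hb P hP p hp]
      inv_mem' := fun {a} ha P hP p hp => by rw [smul_inv', ha P hP p hp] }
  have hWm : ∀ w : M, w ∈ W ↔ ∀ P : Subgroup H, IsMinPar T P → ∀ p ∈ P, p • w = w := fun _ => Iff.rfl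
  -- conjugates of `T`-minimal subgroups
  have hconj : ∀ g ∈ normalizer (T : Set H), ∀ P : Subgroup H, IsMinPar T P →
      IsMinPar T (P.map (MulAut.conj g).toMonoidHom) := by
    intro g hg P hP
    have hTg : T.map (MulAut.conj g).toMonoidHom = T := mem_normalizer_iff_map_conj_eq.mp hg
    have hinj : Function.Injective (MulAut.conj g).toMonoidHom := (MulAut.conj g).injective
    refine ⟨?_, ?_, ?_⟩
    · calc T = T.map (MulAut.conj g).toMonoidHom := hTg.symm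
        _ ≤ _ := map_mono hP.le
    · intro h1
      apply hP.not_le
      intro p hp
      have h2 : g * p * g⁻¹ ∈ normalizer (T : Set H) := h1 ⟨p, hp, rfl⟩
      have h3 : p = g⁻¹ * (g * p * g⁻¹) * g := by group
      rw [h3]
      exact mul_mem (mul_mem (inv_mem hg) h2) hg
    · obtain ⟨L, hL, hLm⟩ := hP.exists_max
      refine ⟨L.map (MulAut.conj g).toMonoidHom, (map_lt_map_iff_of_injective hinj).2 hL, fun K hTK hK => ?_⟩
      have e : (K.comap (MulAut.conj g).toMonoidHom).map (MulAut.conj g).toMonoidHom = K :=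
        map_comap_eq_self_of_surjective (MulAut.conj g).surjective K
      rw [← e] at hK ⊢
      refine map_mono (hLm _ ?_ ((map_lt_map_iff_of_injective hinj).1 hK))
      intro t ht
      have h2 : g * t * g⁻¹ ∈ T := (mem_normalizer_iff.1 hg t).1 ht
      exact hTK h2
  have hWn : ∀ g ∈ normalizer (T : Set H), ∀ w ∈ W, g • w ∈ W := by
    intro g hg w hw
    rw [hWm]
    intro P hP p hp
    have h1 := (hWm w).1 hw _ (hconj g⁻¹ (inv_mem hg) P hP) (g⁻¹ * p * g) ⟨p, hp, by simp⟩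
    rwa [mul_smul, mul_smul, inv_smul_eq_iff] at h1
  have hWinv : ∀ g : H, ∀ w ∈ W, g • w ∈ W := by
    have h1 : (⊤ : Subgroup H) ≤ closure {g : H | g ∈ normalizer (T : Set H) ∨ ∃ P : Subgroup H, IsMinPar T P ∧ g ∈ P} :=
      le_of_forall le_top (fun g hg => subset_closure (Or.inl hg.2)) fun P hP _ p hp =>
        subset_closure (Or.inr ⟨P, hP, hp⟩)
    intro g
    refine (closure_induction (p := fun g _ => (∀ w ∈ W, g • w ∈ W) ∧ ∀ w ∈ W, g⁻¹ • w ∈ W) ?_ ?_ ?_ ?_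
      (h1 (mem_top g))).1
    · rintro g (hg | ⟨P, hP, hg⟩)
      · exact ⟨hWn g hg, hWn g⁻¹ (inv_mem hg)⟩
      · refine ⟨fun w hw => ?_, fun w hw => ?_⟩
        · rw [(hWm w).1 hw P hP g hg]
          exact hw
        · rw [(hWm w).1 hw P hP g⁻¹ (inv_mem hg)]
          exact hw
    · exact ⟨fun w hw => by rwa [one_smul], fun w hw => by rwa [inv_one, one_smul]⟩
    · rintro a b - - ⟨ha1, ha2⟩ ⟨hb1, hb2⟩
      exact ⟨fun w hw => by rw [mul_smul]; exact ha1 _ (hb1 w hw),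
        fun w hw => by rw [mul_inv_rev, mul_smul]; exact hb2 _ (ha2 w hw)⟩
    · rintro a - ⟨ha1, ha2⟩
      exact ⟨ha2, by rwa [inv_inv]⟩
  have hxW : x ∈ W := hc
  have hWtop : W = ⊤ := by
    refine (irr W hWinv).resolve_left fun h1 => hx fun g => ?_
    rw [h1, mem_bot] at hxW
    rw [hxW, smul_one]
  -- `C_H(M)` and `T`
  have hCn : (fxr H (⊤ : Subgroup M)).Normal := fxr_normal fun _ _ _ => mem_top _
  have hPC : ∀ P : Subgroup H, IsMinPar T P → P ≤ fxr H (⊤ : Subgroup M) := fun P hP p hp w _ =>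
    (hWm w).1 (hWtop ▸ mem_top w) P hP p hp
  by_cases hR : fxr H (⊤ : Subgroup M) ⊔ T = ⊤
  · apply hx
    intro g
    have h1 : g ∈ fxr H (⊤ : Subgroup M) ⊔ T := hR ▸ mem_top g
    obtain ⟨c, hc', t, ht, rfl⟩ := mem_sup_of_normal_left.1 h1
    rw [mul_smul, tx t ht, hc' x (mem_top x)]
  · apply h.nb
    refine (h.low _ le_sup_right hR).trans (NO3S.EMany.Low.o2_le_o2 le_top ?_)
    refine le_of_forall le_top ?_ fun P hP _ => (hPC P hP).trans (le_sup_left.trans le_normalizer)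
    intro g hg
    have hTg : T.map (MulAut.conj g).toMonoidHom = T := mem_normalizer_iff_map_conj_eq.mp hg.2
    have hCg : (fxr H (⊤ : Subgroup M)).map (MulAut.conj g).toMonoidHom = fxr H (⊤ : Subgroup M) :=
      mem_normalizer_iff_map_conj_eq.mp ((normalizer_eq_top_iff.2 hCn).symm ▸ mem_top g)
    have h2 : (fxr H (⊤ : Subgroup M) ⊔ T).map (MulAut.conj g).toMonoidHom = fxr H (⊤ : Subgroup M) ⊔ T := by
      rw [Subgroup.map_sup, hTg, hCg]
    exact mem_normalizer_iff_map_conj_eq.mpr h2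

end core

/-! ### The input -/

/-- **The input of THEOREM KL* for a family** -/
structure InpF {H : Type u} [Group H] {M : Type v} [Group M] [MulDistribMulAction H M] (T A : Subgroup H)
    (YY : Set (Subgroup M)) : Prop where
  sq : ∀ m : M, m * m = 1
  two : IsPGroup 2 T
  syl : ¬ 2 ∣ T.index
  el : ∀ a ∈ A, a * a = 1
  exact : (cv M (A : Set H)).index = Nat.card A
  atom : ∀ C : Subgroup H, C ≤ A → C ≠ ⊥ → C ≠ A → Nat.card C < (cv M (C : Set H)).index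
  nT : ¬ A ≤ o2 (⊤ : Subgroup H)
  TY : ∀ Y ∈ YY, ∀ t ∈ T, ∀ w ∈ Y, t • w ∈ Y
  low : ∀ Y ∈ YY, A ≤ o2 (fxr H Y ⊔ T)
  /-- some member of the family is centralised by `T` -/
  z0 : ∃ Y ∈ YY, ∀ w ∈ Y, ∀ t ∈ T, t • w = w
  /-- for every `T`-minimal `P`, the elements of odd order centralise some member of the family -/
  uni : ∀ P : Subgroup H, IsMinPar T P → ∃ Y ∈ YY, ∀ g ∈ P, Odd (orderOf g) → ∀ w ∈ Y, g • w = w
  KH : IsKGroup H

/-- `A` moves `⟨x^H⟩`, `x` fixed by `T` : `A ≰ O₂(H)` -/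
theorem nT_of {H : Type u} [Group H] [Finite H] {M : Type v} [Group M] [MulDistribMulAction H M] {T A : Subgroup H}
    (two : IsPGroup 2 T) (syl : ¬ 2 ∣ T.index) {x : M} (tx : ∀ t ∈ T, t • x = x)
    (nA : ¬ A ≤ fxr H (orb (⊤ : Subgroup H) x)) : ¬ A ≤ o2 (⊤ : Subgroup H) := by
  intro hc
  apply nA
  intro a ha
  rw [mem_fxr_orb]
  intro g _
  have h1 : g⁻¹ * a * g ∈ o2 (⊤ : Subgroup H) := by
    have := (mem_normalizer_iff.1 (le_normalizer_o2 (⊤ : Subgroup H) (mem_top g⁻¹)) a).1 (hc ha)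
    rwa [inv_inv] at this
  have hT : o2 (⊤ : Subgroup H) ≤ T := o2_le_of_sylow two (by rw [relIndex_top_right]; exact syl)
  have h2 := tx _ (hT h1)
  rwa [mul_smul, mul_smul, inv_smul_eq_iff] at h2

namespace InpF

variable {H : Type u} [Group H] [Finite H] {M : Type v} [Group M] [Finite M] [MulDistribMulAction H M]
  {T A : Subgroup H} {YY : Set (Subgroup M)}

omit [Finite M] in
theorem AT (i : InpF T A YY) : A ≤ T := by
  obtain ⟨Y, hY, hYT⟩ := i.z0
  refine (i.low Y hY).trans (o2_le_of_sylow i.two fun h2 => i.syl (h2.trans (relIndex_dvd_index_of_le le_sup_right)))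

/-- **THEOREM KL* for a family**, with the section: `L ≤ H`, `π : L → H'`, and for every `Y ∈ YY` a vector `u ≠ 1` fixed
by `π g` for all `g ∈ L` of odd order which centralise `Y` -/
theorem exists_sec (i : InpF T A YY) (hM : MLK.{u, v}) :
    ∃ (L : Subgroup H) (H' : Type u) (_ : Group H') (_ : Finite H') (N : Type v) (_ : Group N) (_ : Finite N)
      (_ : MulDistribMulAction H' N) (π : L →* H') (A' : Subgroup H') (x' y' : N), T ≤ L ∧ Function.Surjective π ∧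
      SysW ((T.subgroupOf L).map π) A' x' y' ∧ ∀ Y ∈ YY, ∃ u : N, u ≠ 1 ∧
        (∀ t ∈ (T.subgroupOf L).map π, t • u = u) ∧
        ∀ g : L, Odd (orderOf g) → (∀ w ∈ Y, g • w = w) → π g • u = u := by
  -- `L` minimal
  obtain ⟨L, ⟨hTL, hAL⟩, hmin⟩ : ∃ L : Subgroup H, (T ≤ L ∧ ¬ A ≤ o2 L) ∧
      ∀ R : Subgroup H, (T ≤ R ∧ ¬ A ≤ o2 R) → R ≤ L → R = L := by
    have hfin : {L : Subgroup H | T ≤ L ∧ ¬ A ≤ o2 L}.Finite := Set.toFinite _
    obtain ⟨B, hB⟩ := hfin.exists_minimal ⟨⊤, le_top, i.nT⟩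
    exact ⟨B, hB.1, fun C hC hCB => le_antisymm hCB (hB.2 hC hCB)⟩
  have hAT := i.AT
  have hAL' : A ≤ L := hAT.trans hTL
  have e1 : ∀ {C : Subgroup H}, C ≤ L → (C.subgroupOf L).map L.subtype = C := fun {C} hC => by
    rw [subgroupOf_map_subtype, inf_eq_left.2 hC]
  have hcv : ∀ C : Subgroup L, cv M (C : Set L) = cv M ((C.map L.subtype : Subgroup H) : Set H) := by
    intro C
    ext m
    constructor
    · rintro hm _ ⟨c, hc, rfl⟩
      exact hm c hc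
    · exact fun hm c hc => hm _ ⟨c, hc, rfl⟩
  have hcard : ∀ C : Subgroup L, Nat.card (C.map L.subtype) = Nat.card C := fun C =>
    card_map_of_injective L.subtype_injective
  have hlb : LB L M (T.subgroupOf L) (A.subgroupOf L) := by
    refine ⟨i.sq, i.two.comap_subtype, fun h2 => ?_, fun x hx => hAT hx, fun b hb => Subtype.ext (i.el b hb), ?_, ?_, ?_, ?_,
      sec_KG.sub H i.KH L⟩
    · exact i.syl (h2.trans (relIndex_dvd_index_of_le hTL))
    · rw [hcv, e1 hAL', i.exact, ← hcard, e1 hAL']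
    · intro C hC hC1 hCF
      rw [hcv, ← hcard]
      refine i.atom _ ?_ ?_ ?_
      · rintro _ ⟨c, hc, rfl⟩
        exact hC hc
      · intro h1
        exact hC1 ((Subgroup.map_eq_bot_iff_of_injective _ L.subtype_injective).1 h1)
      · intro h1
        apply hCF
        rw [← h1]
        exact (comap_map_eq_self_of_injective L.subtype_injective C).symm
    · intro R hTR hR
      have h1 : R.map L.subtype ≠ L := by
        intro h2
        apply hR
        rw [eq_top_iff]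
        intro r _
        have h3 : (r : H) ∈ R.map L.subtype := by
          rw [h2]
          exact r.2
        obtain ⟨s, hs, hsr⟩ := h3
        rwa [← (Subtype.ext hsr : s = r)]
      have h2 : T ≤ R.map L.subtype := fun t ht => ⟨⟨t, hTL ht⟩, hTR ht, rfl⟩
      have h3 : A ≤ o2 (R.map L.subtype) := by
        by_contra hc
        exact h1 (hmin _ ⟨h2, hc⟩ (map_subtype_le R))
      exact fun x hx => KL.GenTool.o2_subgroupOf_le R (h3 hx)
    · intro hc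
      apply hAL
      have h1 := (map_mono (f := L.subtype) hc).trans (KL.GenTool.o2_map_le L.subtype ⊤)
      rw [e1 hAL', ← MonoidHom.range_eq_map, L.range_subtype] at h1
      exact h1
  -- `L ≠ C_L(Y) T`
  have hY : ∀ Y ∈ YY, ¬ ∀ g : L, Odd (orderOf g) → ∀ w ∈ Y, g • w = w := by
    intro Y hYY hc
    apply hAL
    have h1 : oddGen L ⊔ T = L := oddGen_sup hTL fun h2 => i.syl (h2.trans (relIndex_dvd_index_of_le hTL))
    have h2 : L ≤ fxr H Y ⊔ T := by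
      rw [← h1]
      refine sup_le_sup_right ?_ T
      rw [oddGen_def, closure_le]
      rintro g ⟨hgL, hgo⟩ w hw
      exact hc ⟨g, hgL⟩ (by rwa [orderOf_mk]) w hw
    exact (le_inf (i.low Y hYY) hAL').trans (InpG.o2_le_o2_of_le h2)
  -- a `T`-fixed vector moved by `L`
  obtain ⟨Y0, hY0, hYT⟩ := i.z0
  obtain ⟨x, hxY, hx⟩ : ∃ x ∈ Y0, ¬ ∀ g : L, g • x = x := by
    by_contra hc
    push Not at hc
    exact hY Y0 hY0 fun g _ w hw => hc w hw g
  have htx : ∀ t ∈ T.subgroupOf L, t • x = x := fun t ht => hYT x hxY t ht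
  obtain ⟨N, i1, i2, i3, A', hA', -, hirr, hco⟩ := cores hlb hM htx hx
  have hco' : ∀ Y ∈ YY, ∃ u' : N, (∀ t ∈ T.subgroupOf L, t • u' = u') ∧ (¬ ∀ g : L, g • u' = u') ∧
      ∀ g : L, Odd (orderOf g) → (∀ w ∈ Y, g • w = w) → g • u' = u' := fun Y hYY =>
    hco Y (fun t ht w hw => i.TY Y hYY t ht w hw) (hY Y hYY)
  -- minimal parabolics
  have hP : ∀ P : Subgroup L, IsMinPar (T.subgroupOf L) P → ∃ u' : N, (∀ t ∈ T.subgroupOf L, t • u' = u') ∧
      (¬ ∀ g : L, g • u' = u') ∧ ∀ p ∈ P, p • u' = u' := by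
    intro P hP
    obtain ⟨Y, hYY, hYP⟩ := i.uni _ (KL.GenTool.minPar_map_subtype hTL hP)
    obtain ⟨u', tu, mu, su⟩ := hco' Y hYY
    refine ⟨u', tu, mu, ?_⟩
    have h3 : oddGen P ⊔ T.subgroupOf L = P := oddGen_sup hP.le
      fun h2 => hlb.syl (h2.trans (relIndex_dvd_index_of_le hP.le))
    have h4 : P ≤ MulAction.stabilizer L u' := by
      rw [← h3]
      refine sup_le ?_ fun t ht => tu t ht
      rw [oddGen_def, closure_le]
      rintro g ⟨hgP, hgo⟩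
      refine su g hgo fun w hw => hYP _ ⟨g, hgP, rfl⟩ ?_ w hw
      rwa [Subgroup.coe_subtype, orderOf_coe]
    exact fun p hp => h4 hp
  obtain ⟨x', tx', mx', -⟩ := hco' Y0 hY0
  obtain ⟨P, hPm, p, hp, hpx⟩ := exists_mover hA' hirr tx' mx'
  obtain ⟨u', tu', mu', hPu⟩ := hP P hPm
  obtain ⟨H', j1, j2, N', j3, j4, j5, π, f, B, x'', y'', o, hs⟩ := hA'.exists_sysW hM tx' tu' mu'
    ⟨P, hPm, ⟨p, hp, hpx⟩, hPu⟩ fun R hR => by
      obtain ⟨m, -, hm, hmR⟩ := hP R hR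
      exact ⟨m, hm, hmR⟩
  refine ⟨L, H', j1, j2, N', j3, j4, j5, π, B, x'', y'', hTL, o.πs, hs, fun Y hYY => ?_⟩
  obtain ⟨u, tu, mu, su⟩ := hco' Y hYY
  obtain ⟨u1, hu1, hus⟩ := hA'.shift tu
  refine ⟨f ⟨u1, hu1⟩, ?_, ?_, ?_⟩
  · intro h1
    refine mu fun g => (hus g).1 (hA'.fix_of_cvKm (fun t ht => (hus t).2 (tu t ht)) ((o.ker _).1 h1) g)
  · rintro _ ⟨t, ht, rfl⟩
    rw [← o.eqv t ⟨u1, hu1⟩]
    exact congrArg f (Subtype.ext ((hus t).2 (tu t ht)))
  · intro g hg hgY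
    rw [← o.eqv g ⟨u1, hu1⟩]
    exact congrArg f (Subtype.ext ((hus g).2 (su g hg hgY)))

/-- **THEOREM KL* for a family.** -/
theorem exists_sysW (i : InpF T A YY) (hM : MLK.{u, v}) :
    ∃ (H' : Type u) (_ : Group H') (_ : Finite H') (N : Type v) (_ : Group N) (_ : Finite N)
      (_ : MulDistribMulAction H' N) (T' A' : Subgroup H') (x' y' : N), SysW T' A' x' y' := by
  obtain ⟨L, H', j1, j2, N', j3, j4, j5, π, B, x'', y'', -, -, hs, -⟩ := i.exists_sec hM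
  exact ⟨H', j1, j2, N', j3, j4, j5, _, B, x'', y'', hs⟩

end InpF

namespace InpF

variable {H : Type u} [Group H] [Finite H] {M : Type v} [Group M] [Finite M] [MulDistribMulAction H M]
  {T A : Subgroup H} {YY : Set (Subgroup M)}

/-- **THEOREM KL* for a family**, with the output `Two.SysT`; every element of odd order of `N_H(T)` centralises some
member of the family -/
theorem exists_sysT (i : InpF T A YY) (hM : MLK.{u, v})
    (hN : ∀ n ∈ normalizer (T : Set H), Odd (orderOf n) → ∃ Y ∈ YY, ∀ w ∈ Y, n • w = w) :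
    ∃ (H' : Type u) (_ : Group H') (_ : Finite H') (N : Type v) (_ : Group N) (_ : Finite N)
      (_ : MulDistribMulAction H' N) (T' A' : Subgroup H') (x' y' : N), ML.Ex.Two.SysT H' N T' A' x' y' := by
  obtain ⟨L, H', j1, j2, N', j3, j4, j5, π, B, x'', y'', hTL, hπ, hs, hu⟩ := i.exists_sec hM
  refine ⟨H', j1, j2, N', j3, j4, j5, _, B, x'', y'', hs.sysT fun K hK hKo => SysW.odd_of hs ?_ hK hKo⟩
  intro z hz hzo
  by_contra hz1
  have hzc := mem_center_iff.1 hz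
  -- `z ∈ N(T')`
  have hzN : z ∈ normalizer (((T.subgroupOf L).map π : Subgroup H') : Set H') := by
    rw [mem_normalizer_iff]
    intro t
    rw [← hzc t, mul_inv_cancel_right]
  have hsyl : ¬ 2 ∣ (T.subgroupOf L).index := fun h2 => i.syl (h2.trans (relIndex_dvd_index_of_le hTL))
  obtain ⟨t, ht, n, hn, hzn⟩ := KL.GenTool.exists_normalizer_map π hπ (i.two.comap_subtype) hsyl hzN
  -- an odd power
  obtain ⟨b, hb⟩ := hs.two ⟨t, ht⟩
  have hb' : t ^ 2 ^ b = 1 := congrArg Subtype.val hb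
  obtain ⟨a, m, hm, ha⟩ := Nat.exists_eq_pow_mul_and_not_dvd (orderOf_pos n).ne' 2 (by norm_num)
  have hm' : Odd m := Nat.not_even_iff_odd.1 fun h => hm h.two_dvd
  set e := 2 ^ (a + b) with he
  have hcomm : Commute t (π n) := by
    have h1 : t = z * (π n)⁻¹ := by rw [hzn, mul_inv_cancel_right]
    rw [h1]
    have h2 : Commute z (π n) := (hzc (π n)).symm
    exact h2.mul_left (Commute.refl (π n)).inv_left
  have hze : z ^ e = π (n ^ e) := by
    rw [hzn, hcomm.mul_pow, map_pow, he, pow_add, mul_comm (2 ^ a), pow_mul, hb', one_pow, one_mul]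
  have hno : Odd (orderOf (n ^ e)) := by
    have h1 : (n ^ e) ^ m = 1 := by
      rw [← pow_mul, he, pow_add, mul_assoc, mul_comm (2 ^ b), ← mul_assoc, ← ha, pow_mul, pow_orderOf_eq_one, one_pow]
    exact hm'.of_dvd_nat (orderOf_dvd_of_pow_eq_one h1)
  have hze1 : z ^ e ≠ 1 := by
    intro h1
    have h2 : orderOf z ∣ 2 ^ (a + b) := orderOf_dvd_of_pow_eq_one h1
    have h3 : (2 ^ (a + b)).Coprime (orderOf z) := Nat.Coprime.pow_left _ (Nat.coprime_two_left.mpr hzo)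
    exact hz1 (orderOf_eq_one_iff.1 (Nat.eq_one_of_dvd_coprimes h3 h2 dvd_rfl))
  -- `n ^ e` normalises `T`
  have hnN : ((n ^ e : L) : H) ∈ normalizer (T : Set H) := by
    have h1 : n ^ e ∈ normalizer ((T.subgroupOf L : Subgroup L) : Set L) := pow_mem hn _
    rw [mem_normalizer_iff] at h1 ⊢
    intro s
    constructor
    · intro hs
      exact (h1 ⟨s, hTL hs⟩).1 hs
    · intro hs
      have h2 : s ∈ L := by
        have h2 := L.mul_mem (L.mul_mem (L.inv_mem (n ^ e).2) (hTL hs)) (n ^ e).2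
        have e2 : ((n ^ e : L) : H)⁻¹ * (((n ^ e : L) : H) * s * ((n ^ e : L) : H)⁻¹) * ((n ^ e : L) : H) = s := by group
        rwa [e2] at h2
      exact (h1 ⟨s, h2⟩).2 hs
  obtain ⟨Y, hYY, hY⟩ := hN _ hnN (by rwa [orderOf_coe])
  obtain ⟨u, hu1, -, hu2⟩ := hu Y hYY
  refine SysW.ne_of_center hs (pow_mem hz e) hze1 hu1 ?_
  rw [hze]
  exact hu2 _ hno hY

open ML.Ex.Two in
/-- **THEOREM KL* for a family**, with EXT -/
theorem false_of (hM : MLK.{u, v}) (h1 : RedT.{u, v}) (h2 : ExitN.{u, v}) (h3 : LieT.{u, v}) (h4 : UThreeT.{u, v})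
    (i : InpF T A YY) (hN : ∀ n ∈ normalizer (T : Set H), Odd (orderOf n) → ∃ Y ∈ YY, ∀ w ∈ Y, n • w = w) : False := by
  obtain ⟨H', j1, j2, N', j3, j4, j5, T', B, x', y', h⟩ := i.exists_sysT hM hN
  exact h.false_of h1 h2 h3 h4

end InpF

end Cfsg.Agent.Omega.KL.Star.Fam

end

section


/-!
# KL* with an object which is only normalised (bb #24309 (6), helper513)

`s : Sec H M B N f` the section `N = U¹ / U₀` of the machine `LB H M T B`; `Y ≤ M` invariant under `T`;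
`img f Y` = the image of `Y ∩ U¹` in `N`.

* `img_inv` : an element which normalises `Y` normalises `img f Y`;
* `exists_shift` : a `T`-fixed `m` moved by `H` gives `m' ∈ N` with the same stabilisers over `T`, and if `m' ∈ img f Y`
  then `m b` is centralised by `⟨B^H⟩` for some `b ∈ Y`;
* `exists_img` : if `img f Y ≠ 1` : a `T`-fixed `u' ≠ 1` in `img f Y`;
* **`exists_trace`** : if `img f Y = 1` : a `T`-fixed `u' ≠ 1` which is fixed by every element of odd order which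
  NORMALISES `Y`.
-/

set_option autoImplicit false

namespace Cfsg.Agent.Omega.KL.Star.Nrm

open Subgroup Cfsg Cfsg.Agent.ZN Cfsg.Agent.ClassTwoFusion.Quad
open Cfsg.Agent.Omega.ML.MinFrame hiding comm_of_sq
open Cfsg.Agent.Omega.ML.Final Cfsg.Agent.Omega.NO3S.EMany.Low
open Cfsg.Agent.Omega.KL.Star.Core
open Cfsg.Agent.MinSimple.VModule (o2_isPGroup o2_le le_o2 le_normalizer_o2 o2_le_of_sylow oddGen oddGen_le oddGen_def)
open Cfsg.Agent.MinSimple.MinParabolic (IsMinPar le_of_forall)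

universe u v w

section

variable {H : Type u} [Group H] {M : Type v} [Group M] [MulDistribMulAction H M] {T B : Subgroup H}
  {N : Type v} [Group N] [MulDistribMulAction H N] {f : ↥(cmm M B) →* N}

/-- the image of `Y ∩ U¹` in `N` -/
def img (f : ↥(cmm M B) →* N) (Y : Subgroup M) : Subgroup N := (Y.subgroupOf (cmm M B)).map f

theorem mem_img {Y : Subgroup M} {n : N} : n ∈ img f Y ↔ ∃ y, ∃ hy : y ∈ cmm M B, y ∈ Y ∧ f ⟨y, hy⟩ = n := by
  constructor
  · rintro ⟨w, hw, rfl⟩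
    exact ⟨w, w.2, hw, rfl⟩
  · rintro ⟨y, hy, hyY, rfl⟩
    exact ⟨⟨y, hy⟩, hyY, rfl⟩

theorem img_inv (s : Sec H M B N f) {Y : Subgroup M} {g : H} (hg : ∀ w ∈ Y, g • w ∈ Y) :
    ∀ n ∈ img f Y, g • n ∈ img f Y := by
  intro n hn
  obtain ⟨y, hy, hyY, rfl⟩ := mem_img.1 hn
  exact mem_img.2 ⟨g • y, smul_mem_cmm g hy, hg y hyY, s.eqv g ⟨y, hy⟩⟩

theorem img_le_one (s : Sec H M B N f) {Y : Subgroup M} (h : img f Y = ⊥) {y : M} (hy : y ∈ Y) (hyU : y ∈ cmm M B) :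
    y ∈ cv M (Km B : Set H) := by
  have h1 : f ⟨y, hyU⟩ ∈ img f Y := mem_img.2 ⟨y, hyU, hy, rfl⟩
  rw [h, mem_bot, s.ker] at h1
  exact h1

variable [Finite H] [Finite M] [Finite N]

omit [Finite N] in
/-- `T`-fixed vectors of `M` which `H` moves -/
theorem exists_shift (s : Sec H M B N f) (h : LB H M T B) {m : M} (tm : ∀ t ∈ T, t • m = m) :
    ∃ m' : N, (∀ t ∈ T, t • m' = m') ∧ (∀ R : Subgroup H, T ≤ R → ((∀ g ∈ R, g • m' = m') ↔ ∀ g ∈ R, g • m = m)) ∧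
      ((¬ ∀ g : H, g • m = m) → m' ≠ 1) ∧
      ∀ Y : Subgroup M, m' ∈ img f Y → ∃ b ∈ Y, ∀ k ∈ Km B, k • (m * b) = m * b := by
  have hcomm := comm_of_sq h.sq
  obtain ⟨m0, h0, h1⟩ := exists_fix_coset (T := T) (R := ⊤) h.sq (by rw [relIndex_top_right]; exact h.syl) tm
    (I := cmm M B) (fun g _ => h.orb_eq tm g)
  have hst : ∀ g : H, g • (m0 * m⁻¹) = m0 * m⁻¹ ↔ g • m = m := by
    intro g
    rw [smul_mul', smul_inv', h0 g (mem_top g), mul_right_inj, inv_inj]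
  have tm1 : ∀ t ∈ T, t • (m0 * m⁻¹) = m0 * m⁻¹ := fun t ht => (hst t).2 (tm t ht)
  refine ⟨f ⟨m0 * m⁻¹, h1⟩, fun t ht => s.tfix (tm1 t ht), fun R hTR => ?_, fun hm => ?_, fun Y hY => ?_⟩
  · rw [s.fix_iff h (u := ⟨m0 * m⁻¹, h1⟩) tm1 hTR]
    exact ⟨fun h2 g hg => (hst g).1 (h2 g hg), fun h2 g hg => (hst g).2 (h2 g hg)⟩
  · exact (s.ne_one_iff h (u := ⟨m0 * m⁻¹, h1⟩) tm1).2 fun hc => hm fun g => (hst g).1 (hc g)
  · obtain ⟨y, hy, hyY, hfy⟩ := mem_img.1 hY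
    refine ⟨y, hyY, fun k hk => ?_⟩
    have h2 : f (⟨m0 * m⁻¹, h1⟩ * ⟨y, hy⟩) = 1 := by
      rw [map_mul, hfy]
      exact s.sqN h _
    rw [s.ker] at h2
    have h3 : k • (m0 * m⁻¹ * y) = m0 * m⁻¹ * y := h2 k hk
    have hm1 : m⁻¹ = m := inv_eq_of_mul_eq_one_right (h.sq m)
    rw [hm1, mul_assoc, smul_mul', h0 k (mem_top k)] at h3
    exact mul_left_cancel h3

omit [Finite M] [Finite N] in
/-- a `T`-fixed vector `≠ 1` in `img f Y` -/
theorem exists_img [Finite N] (s : Sec H M B N f) (h : LB H M T B) {Y : Subgroup M} (TY : ∀ t ∈ T, ∀ w ∈ Y, t • w ∈ Y)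
    (hne : img f Y ≠ ⊥) : ∃ u' ∈ img f Y, u' ≠ 1 ∧ ∀ t ∈ T, t • u' = u' :=
  exists_fix (s.sqN h) h.two (fun t ht => img_inv s (TY t ht)) hne

/-- **the trace vector** -/
theorem exists_trace (s : Sec H M B N f) (h : LB H M T B) {Y : Subgroup M} (TY : ∀ t ∈ T, ∀ w ∈ Y, t • w ∈ Y)
    (hY : ¬ ∀ g : H, Odd (orderOf g) → ∀ w ∈ Y, g • w = w) (h0 : img f Y = ⊥) :
    ∃ u' : N, u' ≠ 1 ∧ (∀ t ∈ T, t • u' = u') ∧
      ∀ g : H, Odd (orderOf g) → (∀ w ∈ Y, g • w ∈ Y) → g • u' = u' := by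
  obtain ⟨u, ⟨hu1, hu2⟩, hu3⟩ := exists_vec h TY hY
  let E : Subgroup N := ((Y ⊔ wz M B h.sq).subgroupOf (cmm M B)).map f
  have hYW : ∀ t ∈ T, ∀ w ∈ Y ⊔ wz M B h.sq, t • w ∈ Y ⊔ wz M B h.sq := by
    intro t ht w hw
    have hn : (wz M B h.sq).Normal := normal_of_sq h.sq _
    obtain ⟨y, hy, w0, hw0, rfl⟩ := mem_sup_of_normal_right.1 hw
    rw [smul_mul']
    exact mul_mem (le_sup_left (a := Y) (TY t ht y hy)) (le_sup_right (a := Y) (smul_mem_wz t hw0))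
  have hE : ∀ t ∈ T, ∀ w ∈ E, t • w ∈ E := by
    rintro t ht _ ⟨w, hw, rfl⟩
    refine ⟨⟨t • (w : M), smul_mem_cmm t w.2⟩, hYW t ht _ hw, ?_⟩
    exact s.eqv t w
  have hE1 : E ≠ ⊥ := by
    intro h1
    have h2 : f ⟨u, hu2⟩ ∈ E := ⟨⟨u, hu2⟩, hu1, rfl⟩
    rw [h1, mem_bot, s.ker] at h2
    exact hu3 h2
  obtain ⟨u', hu', hu'1, tu'⟩ := exists_fix (s.sqN h) h.two hE hE1
  refine ⟨u', hu'1, tu', fun g hg hgY => ?_⟩
  obtain ⟨w, hw, rfl⟩ := hu'
  rw [s.smul_eq_iff]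
  have hgK : g ∈ Km B := mem_of_odd h.two h.gen hg
  have hn : (wz M B h.sq).Normal := normal_of_sq h.sq _
  have hw' : (w : M) ∈ Y ⊔ wz M B h.sq := hw
  obtain ⟨y, hy, w0, hw0, hyw⟩ := mem_sup_of_normal_right.1 hw'
  rw [← hyw]
  have hcomm := comm_of_sq h.sq
  have e : g • (y * w0) * (y * w0)⁻¹ = ((g • y) * y⁻¹) * ((g • w0) * w0⁻¹) := by
    rw [smul_mul', mul_inv_rev, hcomm w0⁻¹ y⁻¹]
    calc g • y * g • w0 * (y⁻¹ * w0⁻¹) = g • y * (g • w0 * y⁻¹) * w0⁻¹ := by group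
      _ = g • y * (y⁻¹ * g • w0) * w0⁻¹ := by rw [hcomm (g • w0) y⁻¹]
      _ = _ := by group
  rw [e]
  refine mul_mem ?_ (hw0 g hgK)
  exact img_le_one s h0 (mul_mem (hgY y hy) (inv_mem hy)) (mem_cmm hgK y)

end

end Cfsg.Agent.Omega.KL.Star.Nrm

end

section


/-!
# The machine with a weak uniqueness: `LB ⟹ SysV` (bb #23705 (b), #23876 (I), #24309 (6))

* `SysV H M T A x y` : the fields of helper585's `SysT` without `odd`;
* `SysV.sysT` : with `O(H) = 1` it is `SysT`;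
* **`exists_sysV`** : `Out` and `SysV` from `LB H M T B`, two `T`-fixed vectors `x, y` of `M`, **any** overgroup of `T`
  which fixes `y` and moves `x`, and: **`H` itself is not `T`-minimal** (in particular other `T`-minimal `P` may move
  both `x` and `y`);
* `not_isMinPar` : `H` is not `T`-minimal if the `T`-minimal `P` with `B ≰ O₂(P)` fix a vector which `H` moves.
-/

set_option autoImplicit false

namespace Cfsg.Agent.Omega.KL.Star.Mix

open Subgroup Cfsg Cfsg.Agent.ZN Cfsg.Agent.ClassTwoFusion.Quad Cfsg.Agent.Omega.ML.MinFrame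
open Cfsg.Agent.Omega.ML.Final Cfsg.Agent.Omega.NO3S.EMany.Low
open Cfsg.Agent.MinSimple.VModule (o2_isPGroup o2_le le_o2 le_normalizer_o2 o2_le_of_sylow)
open Cfsg.Agent.MinSimple.MinParabolic (IsMinPar le_of_forall)
open Cfsg.Agent.Omega.ML.Ex.Two (SysT Mv RedT ExitN LieT UThreeT)

universe u v

/-- **the fields of `SysT` without `odd`** -/
structure SysV (H : Type u) [Group H] (M : Type v) [Group M] [MulDistribMulAction H M] (T A : Subgroup H)
    (x y : M) : Prop extends Mv T x y where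
  sq : ∀ m : M, m * m = 1
  faith : ∀ h : H, (∀ m : M, h • m = m) → h = 1
  irr : ∀ W : Subgroup M, (∀ h : H, ∀ w ∈ W, h • w ∈ W) → W = ⊥ ∨ W = ⊤
  two : IsPGroup 2 T
  syl : ¬ 2 ∣ T.index
  AT : A ≤ T
  el : ∀ a ∈ A, a * a = 1
  four : 4 ≤ Nat.card A
  exact : (cv M (A : Set H)).index = Nat.card A
  atom : ∀ C : Subgroup H, C ≤ A → C ≠ ⊥ → C ≠ A → Nat.card C < (cv M (C : Set H)).index
  low : ∀ R : Subgroup H, T ≤ R → R ≠ ⊤ → A ≤ o2 R
  nmax : ¬ ∃ N : Subgroup H, N ≠ ⊤ ∧ ∀ R : Subgroup H, T ≤ R → R ≠ ⊤ → R ≤ N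
  KH : IsKGroup H

/-- with `O(H) = 1` -/
theorem SysV.sysT {H : Type u} [Group H] {M : Type v} [Group M] [MulDistribMulAction H M] {T A : Subgroup H}
    {x y : M} (s : SysV H M T A x y) (ho : ∀ N : Subgroup H, N.Normal → Odd (Nat.card N) → N = ⊥) :
    SysT H M T A x y where
  toMv := s.toMv
  sq := s.sq
  faith := s.faith
  irr := s.irr
  two := s.two
  syl := s.syl
  AT := s.AT
  el := s.el
  four := s.four
  exact := s.exact
  atom := s.atom
  low := s.low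
  nmax := s.nmax
  odd := ho
  KH := s.KH

section

variable {H : Type u} [Group H] [Finite H] {M : Type v} [Group M] [Finite M] [MulDistribMulAction H M]
  {T B : Subgroup H}

/-- **`SysV` from `LB`** and vectors of `U¹ = [M, ⟨B^H⟩]` -/
theorem exists_sysV₀ (h : LB H M T B) (hM : MLK.{u, v}) {x y : M} (tx : ∀ t ∈ T, t • x = x)
    (ty : ∀ t ∈ T, t • y = y) (hxU : x ∈ cmm M B) (hyU : y ∈ cmm M B) (hy : ¬ ∀ g : H, g • y = y)
    (mov : ∃ R : Subgroup H, T ≤ R ∧ (∃ p ∈ R, p • x ≠ x) ∧ ∀ p ∈ R, p • y = y)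
    (nm : ¬ IsMinPar T (⊤ : Subgroup H)) :
    ∃ (H' : Type u) (_ : Group H') (_ : Finite H') (N : Type v) (_ : Group N) (_ : Finite N)
      (_ : MulDistribMulAction H' N) (π : H →* H') (f : ↥(cmm M B) →* N) (A' : Subgroup H'),
      Out H M T B H' N π f A' ∧ SysV H' N (T.map π) A' (f ⟨x, hxU⟩) (f ⟨y, hyU⟩) := by
  have hx : ¬ ∀ g : H, g • x = x := by
    obtain ⟨R, -, ⟨p, -, hp⟩, -⟩ := mov
    exact fun hc => hp (hc p)
  obtain ⟨H', _, _, N, _, _, _, π, f, A', o⟩ := h.exists_out hM tx hx hxU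
  refine ⟨H', inferInstance, inferInstance, N, inferInstance, inferInstance, inferInstance, π, f, A', o, ?_⟩
  -- images of vectors
  have him : ∀ {m : M} (hm : m ∈ cmm M B) {g : H}, g • m = m → π g • f ⟨m, hm⟩ = f ⟨m, hm⟩ := by
    intro m hm g hg
    rw [← o.eqv g ⟨m, hm⟩]
    exact congrArg f (Subtype.ext hg)
  have hne : ∀ {m : M} (hm : m ∈ cmm M B), (∀ t ∈ T, t • m = m) → (¬ ∀ g : H, g • m = m) → f ⟨m, hm⟩ ≠ 1 := by
    intro m hm tm hc h1
    exact hc fun g => h.fix_of_cvKm tm ((o.ker _).1 h1) g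
  have hback : ∀ {m : M} (hm : m ∈ cmm M B), (∀ t ∈ T, t • m = m) → ∀ R : Subgroup H, T ≤ R →
      (∀ g ∈ R, π g • f ⟨m, hm⟩ = f ⟨m, hm⟩) → ∀ g ∈ R, g • m = m := by
    intro m hm tm R hTR hR
    refine h.fix_of_mod tm hTR (I := cv M (Km B : Set H)) (fun w hw tw g _ => h.fix_of_cvKm tw hw g) fun g hg => ?_
    have h1 := hR g hg
    rw [← o.eqv g ⟨m, hm⟩, ← mul_inv_eq_one, ← map_inv, ← map_mul, o.ker] at h1
    exact h1
  have x1 := hne hxU tx hx
  have y1 := hne hyU ty hy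
  have htx : ∀ t ∈ T.map π, t • f ⟨x, hxU⟩ = f ⟨x, hxU⟩ := by
    rintro _ ⟨t, ht, rfl⟩
    exact him hxU (tx t ht)
  have hty : ∀ t ∈ T.map π, t • f ⟨y, hyU⟩ = f ⟨y, hyU⟩ := by
    rintro _ ⟨t, ht, rfl⟩
    exact him hyU (ty t ht)
  have hmov : ∃ R' : Subgroup H', T.map π ≤ R' ∧ (∀ p ∈ R', p • f ⟨y, hyU⟩ = f ⟨y, hyU⟩) ∧
      ∃ p ∈ R', p • f ⟨x, hxU⟩ ≠ f ⟨x, hxU⟩ := by
    obtain ⟨R, hTR, ⟨p, hp, hpx⟩, hRy⟩ := mov
    refine ⟨R.map π, map_mono hTR, ?_, ?_⟩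
    · rintro _ ⟨q, hq, rfl⟩
      exact him hyU (hRy q hq)
    · by_contra hc
      push Not at hc
      exact hpx (hback hxU tx R hTR (fun g hg => hc _ ⟨g, hg, rfl⟩) p hp)
  have hxy : f ⟨x, hxU⟩ ≠ f ⟨y, hyU⟩ := by
    intro he
    obtain ⟨R, -, hRy, p, hp, hpx⟩ := hmov
    rw [he] at hpx
    exact hpx (hRy p hp)
  refine ⟨⟨x1, y1, htx, hty, hmov⟩, o.lb.sq, o.faith, o.irr, o.lb.two, o.lb.syl, o.lb.BT, o.lb.el,
    four_le o.lb.sq o.faith o.irr o.lb htx hty x1 y1 hxy, o.lb.exact, o.lb.atom, o.lb.low, ?_, o.lb.KH⟩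
  rintro ⟨L, hL, hLm⟩
  by_cases hn : (⊤ : Subgroup H') ≤ normalizer ((T.map π : Subgroup H') : Set H')
  · exact o.lb.nb (o.lb.BT.trans (le_o2 le_top o.lb.two hn))
  · obtain ⟨P, hP, hPt⟩ := KL.GenTool.exists_minPar_map π o.πs
      (⟨le_top, hn, L, lt_top_iff_ne_top.2 hL, fun K hK hlt => hLm K hK hlt.ne⟩ : IsMinPar (T.map π) ⊤)
    have h1 : P ≠ ⊤ := fun h1 => nm (h1 ▸ hP)
    apply o.lb.nb
    have h2 := (o.AB.trans (map_mono (h.low P hP.le h1))).trans (KL.GenTool.o2_map_le π P)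
    rwa [hPt] at h2

omit [Finite M] in
/-- `H` is not `T`-minimal if the `T`-minimal `P` with `B ≰ O₂(P)` fix a vector which `H` moves -/
theorem not_isMinPar (h : LB H M T B)
    (nP : ∀ P : Subgroup H, IsMinPar T P → B ≤ o2 P ∨ ∃ m : M, (¬ ∀ g : H, g • m = m) ∧ ∀ p ∈ P, p • m = m) :
    ¬ IsMinPar T (⊤ : Subgroup H) := by
  intro hP
  rcases nP ⊤ hP with h1 | ⟨m, hm, hPm⟩
  · exact h.nb h1
  · exact hm fun g => hPm g (mem_top g)

/-- **`SysV` from `LB`**: `x, y` fixed by `T`, some overgroup of `T` fixes `y` and moves `x`; `H` is not `T`-minimal -/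
theorem exists_sysV (h : LB H M T B) (hM : MLK.{u, v}) {x y : M} (tx : ∀ t ∈ T, t • x = x)
    (ty : ∀ t ∈ T, t • y = y) (hy : ¬ ∀ g : H, g • y = y)
    (mov : ∃ R : Subgroup H, T ≤ R ∧ (∃ p ∈ R, p • x ≠ x) ∧ ∀ p ∈ R, p • y = y)
    (nm : ¬ IsMinPar T (⊤ : Subgroup H)) :
    ∃ (H' : Type u) (_ : Group H') (_ : Finite H') (N : Type v) (_ : Group N) (_ : Finite N)
      (_ : MulDistribMulAction H' N) (π : H →* H') (f : ↥(cmm M B) →* N) (A' : Subgroup H') (x' y' : N),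
      Out H M T B H' N π f A' ∧ SysV H' N (T.map π) A' x' y' := by
  obtain ⟨x', hxU, hx'⟩ := h.shift tx
  obtain ⟨y', hyU, hy'⟩ := h.shift ty
  obtain ⟨R, hR, ⟨p, hp, hpx⟩, hRy⟩ := mov
  obtain ⟨H', i1, i2, N, i3, i4, i5, π, f, A', o, hs⟩ := exists_sysV₀ h hM (x := x') (y := y')
    (fun t ht => (hx' t).2 (tx t ht)) (fun t ht => (hy' t).2 (ty t ht)) hxU hyU
    (fun hc => hy fun g => (hy' g).1 (hc g)) ⟨R, hR, ⟨p, hp, fun hc => hpx ((hx' p).1 hc)⟩, fun q hq => (hy' q).2 (hRy q hq)⟩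
    nm
  exact ⟨H', i1, i2, N, i3, i4, i5, π, f, A', _, _, o, hs⟩

end

end Cfsg.Agent.Omega.KL.Star.Mix

end
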